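import Cfsg.Agent.Lib.Cert.A7.M
import Cfsg.Agent.Lib.Cert.Sch4

set_option autoImplicit false
set_option maxRecDepth 100000

namespace Cfsg.Agent.Ct.A7s.C3

open Cfsg.Agent.PC

open Cfsg.Agent.Fi Cfsg.Agent.Ct
def Ef_t : TN := (TN.leaf (nat_lit 0xe7c7b3c157273e1dac1ad0e430061227cd36edfaad4a427269c1a730f8550c0cf9c7ce2269492f78aad5a0d45d0031bcc367b99d2b646332e156a30f706003f3bab48b6b6551a6c9c179cc0de1cf03ceadd58ab64a9c897a25a50cf6c8300))
noncomputable def Ef (i : ℕ) : ℕ := get9 Ef_t (nat_lit 6) (nat_lit 63) i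
noncomputable def E (j c : ℕ) : ℕ := Ef (Nat.add (Nat.mul j (nat_lit 21)) c)
def iw (i : ℕ) : ℕ := Nat.land (Nat.shiftRight (nat_lit 181889) (Nat.mul (nat_lit 3) i)) (nat_lit 7)
def ws : List (List ℕ × ℕ) := [([nat_lit 0, nat_lit 0, nat_lit 0], (nat_lit 0)), ([nat_lit 0, nat_lit 2, nat_lit 0, nat_lit 2, nat_lit 0, nat_lit 2], (nat_lit 0)), ([nat_lit 0, nat_lit 3, nat_lit 0, nat_lit 3], (nat_lit 2)), ([nat_lit 2, nat_lit 3, nat_lit 2, nat_lit 3, nat_lit 2, nat_lit 3], (nat_lit 0)), ([nat_lit 0, nat_lit 4, nat_lit 0, nat_lit 4], (nat_lit 0)), ([nat_lit 2, nat_lit 4, nat_lit 2, nat_lit 4], (nat_lit 0)), ([nat_lit 3, nat_lit 4, nat_lit 3, nat_lit 4, nat_lit 3, nat_lit 4], (nat_lit 0)), ([nat_lit 2, nat_lit 5, nat_lit 2, nat_lit 5, nat_lit 2, nat_lit 5], (nat_lit 0)), ([nat_lit 5, nat_lit 2, nat_lit 1, nat_lit 5, nat_lit 0, nat_lit 2, nat_lit 3, nat_lit 4, nat_lit 3, nat_lit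 2], (nat_lit 1)), ([nat_lit 5, nat_lit 3, nat_lit 1, nat_lit 5, nat_lit 0, nat_lit 4], (nat_lit 2)), ([nat_lit 0, nat_lit 1], (nat_lit 0)), ([nat_lit 1, nat_lit 0], (nat_lit 0)), ([nat_lit 2, nat_lit 2], (nat_lit 0)), ([nat_lit 3, nat_lit 3], (nat_lit 0)), ([nat_lit 4, nat_lit 4], (nat_lit 0)), ([nat_lit 5, nat_lit 5], (nat_lit 0))]
noncomputable def f1 : ℕ → ℕ := permE (mT E (nat_lit 3)) iw (nat_lit 63) (nat_lit 6)
noncomputable def f2 : ℕ → ℕ := scE E (nat_lit 3) ws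
theorem ca0 : Nat.beq (rng f1 (nat_lit 0) (nat_lit 63)) (nat_lit 0) = true := by decide +kernel
theorem cb0 : Nat.beq (rng f2 (nat_lit 0) (nat_lit 21)) (nat_lit 0) = true := by decide +kernel
theorem h1 : ∀ i < 63, f1 i = 0 := by
  have h := zero_lt_zero f1
  have h := zero_lt_add (a := (nat_lit 0)) (n := (nat_lit 63)) (b := (nat_lit 63)) h ca0 rfl
  exact h
theorem h2 : ∀ i < 21, f2 i = 0 := by
  have h := zero_lt_zero f2
  have h := zero_lt_add (a := (nat_lit 0)) (n := (nat_lit 21)) (b := (nat_lit 21)) h cb0 rfl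
  exact h
theorem lok : LoK (A7.P) 3 := lok_mono A7.top A7.ub A7.iv A7.rl (M := 62) (N := 21) rfl (by decide +kernel) h1 h2
  (u := [nat_lit 4, nat_lit 3, nat_lit 4, nat_lit 2]) (v := [nat_lit 3, nat_lit 1, nat_lit 2, nat_lit 3, nat_lit 0]) (by decide +kernel) ((A7.md0).eq (by decide +kernel))

end Cfsg.Agent.Ct.A7s.C3
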